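import Groth.Agent.Lib.Curves.SubUnionMain
import Groth.Agent.Lib.Curves.H0Components
import Groth.Agent.Lib.TFOne.EDeg
import Groth.Agent.H97.DimOneSetup

/-!
# No sections of bundles of small degree on curves without `H¹(O)`

For a reduced connected curve with `H¹(O) = 0` write `f S` for the Euler characteristic of the structure sheaf
of the union of the components in `S`.  Intersection points are counted by `f`, which gives that a bundle
with `deg_E ≤ k_E - 2` for all components but one, and `≤ k_E - 1` there, has no nonzero section.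
-/

set_option autoImplicit false
set_option linter.style.haveILetI false
universe u

open CategoryTheory CategoryTheory.Limits AlgebraicGeometry Opposite TopologicalSpace

noncomputable section

namespace Groth.Agent.Lib.TreeVan29

open Groth.Agent.Lib Groth.Agent.Lib.Modules Groth.Agent.Lib.Curves Groth.Agent.Lib.Curves.SubUnion
open Groth.Agent.Lib.Modules.StalkModule (stalkMapₗ stalkMapₗ_comp stalkMapₗ_zero)

variable {X : Scheme.{u}} (k : Type u) [Field k] [IsAlgClosed k] [X.Over (Spec (CommRingCat.of k))]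
  [IsProper (X ↘ Spec (CommRingCat.of k))] [IsReduced X]

/-- The Euler characteristic of the structure sheaf of a union. -/
def f (S : Finset X) : ℤ := Curv2.euler k X (OS S)

omit [IsAlgClosed k] [X.Over (Spec (CommRingCat.of k))] [IsProper (X ↘ Spec (CommRingCat.of k))] [IsReduced X] in
/-- The restriction to a closed subset is the restriction of functions. -/
theorem toOT_eq {T : Set X} (hT : IsClosed T) :
    TFOne.EDeg.toOT hT = _root_.ClSub.toSubscheme (Scheme.IdealSheafData.vanishingIdeal ⟨T, hT⟩) :=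
  (TensorMod.LocIso.unit_comp_structure (VecSt.subschι X T hT)).trans (by rfl)

variable (hdim : topologicalKrullDim X ≤ 1)

include hdim

/-- Kernels of compatible restrictions compare. -/
theorem euler_le_of_mono {M N : X.Modules} (hM : Coh.IsCoh M) (hN : Coh.IsCoh N) (φ : M ⟶ N) [Mono φ]
    (h : ∀ η ∈ genericPoints X, Function.Surjective (stalkMapₗ φ η)) :
    Curv2.euler k X M ≤ Curv2.euler k X N := by
  haveI := GlobalSections.noetherianSpace_of_proper k X
  have hC : Coh.IsCoh (cokernel φ) := CohBasics.Closure.isCoh_cokernel φ hM.1 hN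
  have e : Curv2.euler k X N = Curv2.euler k X M + Curv2.euler k X (cokernel φ) :=
    ParBun.Proper.euler_add (S := ShortComplex.mk φ (cokernel.π φ) (cokernel.condition φ))
      { exact := ShortComplex.exact_of_g_is_cokernel _ (cokernelIsCokernel φ) } hM hN hC
  have h0 : 0 ≤ Curv2.euler k X (cokernel φ) :=
    TFOne.Euler.euler_nonneg hdim fun η hη => subsingleton_cokernel_stalk φ fun v => h η hη v
  omega

omit hdim in
/-- Euler characteristics of kernels of epimorphisms. -/
theorem euler_kernel {M N : X.Modules} (hM : Coh.IsCoh M) (hN : Coh.IsCoh N) (φ : M ⟶ N) [Epi φ] :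
    Coh.IsCoh (kernel φ) ∧ Curv2.euler k X (kernel φ) = Curv2.euler k X M - Curv2.euler k X N := by
  haveI := GlobalSections.isNoetherian_of_proper k X
  have hK : Coh.IsCoh (kernel φ) := CohBasics.Closure.isCoh_kernel φ hM hN.1
  refine ⟨hK, ?_⟩
  have e : Curv2.euler k X M = Curv2.euler k X (kernel φ) + Curv2.euler k X N :=
    ParBun.Proper.euler_add (S := ShortComplex.mk (kernel.ι φ) φ (kernel.condition φ))
      { exact := ShortComplex.exact_of_f_is_kernel _ (kernelIsKernel φ) } hK hM hN
  omega

/-- Intersection points of unions without common components. -/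
theorem card_inter_le {A B : Finset X} (hA : IsGen A) (hB : IsGen B) (hAB : Disjoint A B) [DecidableEq X] :
    (uT A ∩ uT B).Finite ∧
      ((uT A ∩ uT B).ncard : ℤ) + f k (A ∪ B) ≤ f k A + f k B := by
  haveI := GlobalSections.isNoetherian_of_proper k X
  haveI := GlobalSections.noetherianSpace_of_proper k X
  set Z : Set X := uT A ∩ uT B with hZ
  have hZc : IsClosed Z := (isClosed_uT A).inter (isClosed_uT B)
  have hgen : ∀ η ∈ genericPoints X, η ∉ Z := fun η hη h =>
    Finset.disjoint_left.1 hAB ((mem_uT_iff hη).1 h.1) ((mem_uT_iff hη).1 h.2)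
  have hfin : Z.Finite := H97.DimOneSetup.finite_of_no_gen hdim hZc fun x hx hg => hgen x hg hx
  refine ⟨hfin, ?_⟩
  have hAB' : IsGen (A ∪ B) := fun η hη => (Finset.mem_union.1 hη).elim (hA η) (hB η)
  have hU := isQuotOn_OS hAB'
  have hqA := isQuotOn_OS hA
  have hqB := isQuotOn_OS hB
  have hO := TFOne.EDeg.isTF1_structure (X := X)
  obtain ⟨rA, hrA, hepA⟩ := exists_restrict hO hAB' hU Finset.subset_union_left hqA
  obtain ⟨rB, hrB, hepB⟩ := exists_restrict hO hAB' hU Finset.subset_union_right hqB
  -- the reduced scheme on the intersection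
  let iA := VecSt.subschι X (uT A) (isClosed_uT A)
  let iB := VecSt.subschι X (uT B) (isClosed_uT B)
  let iZ := VecSt.subschι X Z hZc
  let Q : X.Modules := TFOne.EDeg.OT hZc
  haveI := hepA
  haveI := hepB
  haveI := hqA.1
  haveI := hqB.1
  haveI := hU.1
  have lift : ∀ (T : Set X) (hT : IsClosed T), Z ⊆ T →
      ∃ q : TFOne.EDeg.OT hT ⟶ Q, TFOne.EDeg.toOT hT ≫ q = TFOne.EDeg.toOT hZc := by
    intro T hT hsub
    have hle : (Scheme.IdealSheafData.vanishingIdeal ⟨T, hT⟩ : X.IdealSheafData) ≤
        Scheme.IdealSheafData.vanishingIdeal ⟨Z, hZc⟩ :=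
      Scheme.IdealSheafData.gc.monotone_u (show (⟨Z, hZc⟩ : TopologicalSpace.Closeds X) ≤ ⟨T, hT⟩ from hsub)
    refine ⟨NefGG.quotHom _ _ hle, ?_⟩
    rw [toOT_eq, toOT_eq]
    exact NefGG.toSubscheme_quotHom _ _ hle
  obtain ⟨qA, hqA'⟩ := lift _ (isClosed_uT A) Set.inter_subset_left
  obtain ⟨qB, hqB'⟩ := lift _ (isClosed_uT B) Set.inter_subset_right
  haveI hQe : Epi (TFOne.EDeg.toOT hZc) := by
    have hi2 := ((Scheme.Modules.pushforward iZ).mapIso (PicLoc.pullbackStructureIso iZ)).isIso_hom
    exact @epi_comp _ _ _ _ _ _ (PushClosed.Unit.epi_unit iZ (Coh.structureModule X)) _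
      (@IsIso.epi_of_iso _ _ _ _ _ hi2)
  haveI : Epi qA := epi_of_epi_fac hqA'
  haveI : IsLocallyNoetherian (VecSt.subsch X Z hZc) := LocallyOfFiniteType.isLocallyNoetherian iZ
  have hQc : Coh.IsCoh Q := Cyc.Dev.SchemeEquiv.isCoh_push _ (TFOne.EDeg.isTF1_structure (X := VecSt.subsch X Z hZc)).1
  have hqq : rA ≫ qA = rB ≫ qB := by
    have e : toOS (A ∪ B) ≫ rA ≫ qA = toOS (A ∪ B) ≫ rB ≫ qB := by
      rw [← Category.assoc, hrA, hqA', ← Category.assoc, hrB, hqB']
    exact (cancel_epi _).1 e
  obtain ⟨hK, eK⟩ := euler_kernel k hU.2.1 hqB.2.1 rB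
  obtain ⟨hKA, eKA⟩ := euler_kernel k hqA.2.1 hQc qA
  let j : kernel rB ⟶ kernel qA := kernel.lift qA (kernel.ι rB ≫ rA)
    (by rw [Category.assoc, hqq, ← Category.assoc, kernel.condition, zero_comp])
  haveI := hK.1
  have hKt : TorSh.IsTorsionFree (kernel rB) := isTorsionFree_of_mono (kernel.ι rB) hU.2.2.1
  have hj : ∀ η ∈ genericPoints X, Function.Bijective (stalkMapₗ j η) := by
    intro η hη
    have hι := (StalkModule.mono_iff_stalkMapₗ_injective (kernel.ι rB)).mp inferInstance η
    have hι' := (StalkModule.mono_iff_stalkMapₗ_injective (kernel.ι qA)).mp inferInstance η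
    have hjι : ∀ v, stalkMapₗ (kernel.ι qA) η (stalkMapₗ j η v) = stalkMapₗ rA η (stalkMapₗ (kernel.ι rB) η v) :=
      fun v => by rw [← stalk_comp_apply, ← stalk_comp_apply, kernel.lift_ι]
    by_cases hηA : η ∈ A
    · have hηB : η ∉ uT B := fun h => Finset.disjoint_left.1 hAB hηA ((mem_uT_iff hη).1 h)
      have hb := TFOne.Generic.bijective_factor hO hU hqA hrA hη
        (mem_uT_of_mem (Finset.mem_union_left _ hηA)) (mem_uT_of_mem hηA)
      refine ⟨fun a b hab => hι (hb.1 (by rw [← hjι, ← hjι, hab])), fun w => ?_⟩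
      obtain ⟨u, hu⟩ := hb.2 (stalkMapₗ (kernel.ι qA) η w)
      obtain ⟨v, hv⟩ := mem_stalk_kernel rB (v := u)
        (@Subsingleton.elim _ (TFOne.Generic.subsingleton_stalk hqB hηB) _ _)
      exact ⟨v, hι' (by rw [hjι, hv, hu])⟩
    · have hηA' : η ∉ uT A := fun h => hηA ((mem_uT_iff hη).1 h)
      haveI := TFOne.Generic.subsingleton_stalk hqA hηA'
      haveI : Subsingleton ((kernel qA).presheaf.stalk η) := hι'.subsingleton
      refine ⟨fun a b _ => hι ?_, fun w => ⟨0, Subsingleton.elim _ _⟩⟩
      by_cases hηB : η ∈ B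
      · refine (TFOne.Generic.bijective_factor hO hU hqB hrB hη
          (mem_uT_of_mem (Finset.mem_union_right _ hηB)) (mem_uT_of_mem hηB)).1 ?_
        rw [← stalk_comp_apply, ← stalk_comp_apply, kernel.condition, stalkMapₗ_zero]
        rfl
      · exact @Subsingleton.elim _ (TFOne.Generic.subsingleton_stalk hU fun h => by
          rcases Finset.mem_union.1 ((mem_uT_iff hη).1 h) with h | h
          exacts [hηA h, hηB h]) _ _
  haveI : Mono j := TFOne.Generic.mono_of_generic hKt j fun η hη => (hj η hη).1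
  have h1 := euler_le_of_mono k hdim hK hKA j fun η hη => (hj η hη).2
  have hcount : (Z.ncard : ℤ) = Curv2.euler k X Q := by
    have hQ0 : Positivity.IsTorsion Q := fun x hx => TFOne.Push.subsingleton_push hZc _ (hgen x hx)
    rw [hQ0.euler hdim]
    letI : (VecSt.subsch X Z hZc).Over (Spec (CommRingCat.of k)) := ⟨iZ ≫ (X ↘ Spec (CommRingCat.of k))⟩
    haveI := TensorMod.QCohInv.isQCoh_structureModule (VecSt.subsch X Z hZc)
    let eL := ZarCoh.Linear.affineLinearEquiv (A := k) iZ rfl (Coh.structureModule (VecSt.subsch X Z hZc)) 0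
    rw [eL.finrank_eq]
    haveI : IsProper ((VecSt.subsch X Z hZc) ↘ Spec (CommRingCat.of k)) :=
      inferInstanceAs (IsProper (iZ ≫ (X ↘ Spec (CommRingCat.of k))))
    haveI : NoetherianSpace (VecSt.subsch X Z hZc) := GlobalSections.noetherianSpace_of_proper k _
    haveI : FiniteDimensional k (Coh.HH X Q 0) := (Finiteness.isGood_of_isCoh (k := k) hdim hQc).fin₀
    haveI : FiniteDimensional k (Coh.HH (VecSt.subsch X Z hZc) (Coh.structureModule (VecSt.subsch X Z hZc)) 0) :=
      Module.Finite.equiv eL
    rw [H0Components.finrank_h0_eq_card k]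
    haveI : Finite Z := hfin.to_subtype
    have hr := TFOne.Push.range_subschι hZc
    let φ : VecSt.subsch X Z hZc → Z := fun z => ⟨iZ z, hr.le (Set.mem_range_self z)⟩
    have hinj : Function.Injective φ := fun a b e => iZ.isClosedEmbedding.injective (congrArg Subtype.val e)
    have hsurj : Function.Surjective φ := fun z => by
      obtain ⟨w, hw⟩ := hr.ge z.2
      exact ⟨w, Subtype.ext hw⟩
    haveI : Finite (VecSt.subsch X Z hZc) := Finite.of_injective φ hinj
    haveI : T1Space (VecSt.subsch X Z hZc) := ⟨fun w => by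
      have hc := (H97.DimOneSetup.isClosed_singleton_of_not_gen hdim
        (fun h => hgen _ h (hr.le (Set.mem_range_self w)))).preimage iZ.continuous
      rwa [show ({iZ w} : Set X) = iZ '' {w} from Set.image_singleton.symm,
        iZ.isClosedEmbedding.injective.preimage_image] at hc⟩
    have e1 : Nat.card (_root_.ConnectedComponents (VecSt.subsch X Z hZc)) = Nat.card (VecSt.subsch X Z hZc) := by
      refine (Nat.card_eq_of_bijective _ ⟨fun a b e => ?_, ConnectedComponents.surjective_coe⟩).symm
      have := ConnectedComponents.coe_eq_coe.1 e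
      rw [connectedComponent_eq_singleton, connectedComponent_eq_singleton] at this
      exact Set.singleton_eq_singleton_iff.1 this
    rw [e1, Nat.card_eq_of_bijective φ ⟨hinj, hsurj⟩, Nat.card_coe_set_eq]
  rw [hcount]
  unfold f
  omega

end Groth.Agent.Lib.TreeVan29
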