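import Groth.Agent.Lib.TreeVan29.Basic

/-!
# Vanishing of sections
-/

set_option autoImplicit false
set_option linter.style.haveILetI false
universe u

open CategoryTheory CategoryTheory.Limits AlgebraicGeometry Opposite TopologicalSpace

noncomputable section

namespace Groth.Agent.Lib.TreeVan29

open Groth.Agent.Lib Groth.Agent.Lib.Modules Groth.Agent.Lib.Curves Groth.Agent.Lib.Curves.SubUnion
open Groth.Agent.Lib.Curves.LES (mapK)
open Groth.Agent.Lib.Modules.StalkModule (stalkMapₗ stalkMapₗ_comp stalkMapₗ_zero)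
open Groth.Agent.Lib.TFOne.EDeg (D)

variable {X : Scheme.{u}} (k : Type u) [Field k] [IsAlgClosed k] [X.Over (Spec (CommRingCat.of k))]
  [IsProper (X ↘ Spec (CommRingCat.of k))] [IsReduced X] (hdim : topologicalKrullDim X ≤ 1)
  (hg : Subsingleton (Coh.HH X (Coh.structureModule X) 1))

/-- The number of points of a component on the other components. -/
def kE (η : X) : ℤ := ((closure {η} ∩ closure (closure {η})ᶜ : Set X).ncard : ℤ)

omit [IsAlgClosed k] [X.Over (Spec (CommRingCat.of k))] [IsProper (X ↘ Spec (CommRingCat.of k))] [IsReduced X] in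
theorem uT_union [DecidableEq X] (A B : Finset X) : uT (A ∪ B) = uT A ∪ uT B := Finset.set_biUnion_union _ _ _

omit [IsAlgClosed k] [X.Over (Spec (CommRingCat.of k))] [IsProper (X ↘ Spec (CommRingCat.of k))] [IsReduced X] in
theorem uT_singleton (η : X) : uT ({η} : Finset X) = closure {η} := Finset.set_biUnion_singleton _ _

omit [IsAlgClosed k] [IsReduced X] in
theorem uT_gens : uT (gens (X := X) k) = Set.univ := by
  refine Set.eq_univ_of_forall fun x => ?_
  obtain ⟨η, hη, hηx⟩ := H97.AffineImages.exists_gen_specializes x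
  exact Set.mem_biUnion (x := η) ((mem_gens k).2 hη) (specializes_iff_mem_closure.1 hηx)

include k hdim

theorem f_empty : f k (∅ : Finset X) = 0 := by
  haveI := GlobalSections.isNoetherian_of_proper k X
  haveI := GlobalSections.noetherianSpace_of_proper k X
  have h0 : ∀ x : X, Subsingleton ((OS (∅ : Finset X)).presheaf.stalk x) := fun x =>
    TFOne.Generic.subsingleton_stalk (isQuotOn_OS (S := (∅ : Finset X)) fun η h => absurd h (Finset.notMem_empty η))
      fun h => by simp [uT] at h
  haveI := GlobalSections.secModule k (OS (∅ : Finset X))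
  have hT : Positivity.IsTorsion (OS (∅ : Finset X)) := fun x _ => h0 x
  unfold f
  rw [hT.euler hdim]
  haveI : Subsingleton (Coh.HH X (OS (∅ : Finset X)) 0) := by
    refine (GlobalSections.h0Equiv (OS (∅ : Finset X))).toEquiv.subsingleton_congr.2 ?_
    exact subsingleton_of_forall_eq 0 fun t => Modules.Support.eq_zero_of_germ_eq_zero
      (M := OS (∅ : Finset X)) (U := ⊤) t fun x _ _ => @Subsingleton.elim _ (h0 x) _ _
  simp [Module.finrank_zero_of_subsingleton]

include hg

theorem subsingleton_h1 {S : Finset X} (hS : IsGen S) : Subsingleton (Coh.HH X (OS S) 1) := by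
  haveI := GlobalSections.isNoetherian_of_proper k X
  haveI := (isQuotOn_OS hS).1
  exact (mapK_surjective_of_generic k hdim (toOS S) fun η _ =>
    (StalkModule.epi_iff_stalkMapₗ_surjective _).mp inferInstance η).subsingleton

theorem one_le_f {S : Finset X} (hS : IsGen S) (hne : S.Nonempty) : 1 ≤ f k S := by
  obtain ⟨-, e, h0⟩ := structure_data k (Z := (⊤ : X.IdealSheafData)) hdim
    (PicLoc.isInvertible_structureModule X) (fun η hη h => by simp at h) hne
  haveI := subsingleton_h1 k hdim hg hS
  unfold f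
  rw [e]
  have : Euler.hdim k X (OS S) 1 = 0 := Module.finrank_zero_of_subsingleton
  rw [this]
  omega

theorem f_connected {S : Finset X} (hS : IsGen S) (hne : S.Nonempty) (hconn : _root_.IsPreconnected (uT S)) :
    f k S = 1 := by
  haveI := GlobalSections.isNoetherian_of_proper k X
  obtain ⟨-, e, -⟩ := structure_data k (Z := (⊤ : X.IdealSheafData)) hdim
    (PicLoc.isInvertible_structureModule X) (fun η hη h => by simp at h) hne
  haveI := subsingleton_h1 k hdim hg hS
  unfold f
  rw [e]
  have h1 : Euler.hdim k X (OS S) 1 = 0 := Module.finrank_zero_of_subsingleton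
  rw [h1]
  let iT := VecSt.subschι X (uT S) (isClosed_uT S)
  letI : (VecSt.subsch X (uT S) (isClosed_uT S)).Over (Spec (CommRingCat.of k)) :=
    ⟨iT ≫ (X ↘ Spec (CommRingCat.of k))⟩
  haveI : IsProper ((VecSt.subsch X (uT S) (isClosed_uT S)) ↘ Spec (CommRingCat.of k)) :=
    inferInstanceAs (IsProper (iT ≫ (X ↘ Spec (CommRingCat.of k))))
  haveI := GlobalSections.noetherianSpace_of_proper k (VecSt.subsch X (uT S) (isClosed_uT S))
  haveI := TensorMod.QCohInv.isQCoh_structureModule (VecSt.subsch X (uT S) (isClosed_uT S))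
  let eL := ZarCoh.Linear.affineLinearEquiv (A := k) iT rfl
    (Coh.structureModule (VecSt.subsch X (uT S) (isClosed_uT S))) 0
  haveI : FiniteDimensional k (Coh.HH X (OS S) 0) :=
    (Finiteness.isGood_of_isCoh (k := k) hdim (isQuotOn_OS hS).2.1).fin₀
  haveI : FiniteDimensional k (Coh.HH (VecSt.subsch X (uT S) (isClosed_uT S))
      (Coh.structureModule (VecSt.subsch X (uT S) (isClosed_uT S))) 0) := Module.Finite.equiv eL
  have h2 : Euler.hdim k X (OS S) 0 = 1 := by
    show Module.finrank k (Coh.HH X (OS S) 0) = 1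
    rw [eL.finrank_eq, H0Components.finrank_h0_eq_card k]
    have hr := TFOne.Push.range_subschι (isClosed_uT S)
    haveI : PreconnectedSpace (VecSt.subsch X (uT S) (isClosed_uT S)) := ⟨by
      rw [iT.isClosedEmbedding.isInducing.isPreconnected_image.symm, Set.image_univ, hr]
      exact hconn⟩
    haveI : Nonempty (VecSt.subsch X (uT S) (isClosed_uT S)) := by
      obtain ⟨η, hη⟩ := hne
      obtain ⟨w, -⟩ := hr.ge (mem_uT_of_mem hη)
      exact ⟨w⟩
    exact Nat.card_eq_one_iff_unique.2 ⟨inferInstance, inferInstance⟩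
  rw [h2]
  norm_num

theorem f_singleton {η : X} (hη : η ∈ genericPoints X) : f k ({η} : Finset X) = 1 :=
  f_connected k hdim hg (fun x hx => by rwa [Finset.mem_singleton.1 hx]) (Finset.singleton_nonempty η)
    (by rw [uT_singleton]; exact isPreconnected_singleton.closure)

open scoped Classical in
/-- The count of intersection points by Euler characteristics. -/
theorem sum_kE_le [PreconnectedSpace X] [Nonempty X] {S : Finset X} (hS : S ⊆ gens (X := X) k) :
    ∑ η ∈ S, kE η ≤ 2 * (S.card : ℤ) - f k S + f k (gens (X := X) k \ S) - 1 := by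
  have hG : IsGen (gens (X := X) k) := fun η h => (mem_gens k).mp h
  induction S using Finset.induction with
  | empty =>
    have hne : (gens (X := X) k).Nonempty := by
      obtain ⟨x⟩ := ‹Nonempty X›
      obtain ⟨η, hη, -⟩ := H97.AffineImages.exists_gen_specializes x
      exact ⟨η, (mem_gens k).2 hη⟩
    rw [Finset.sdiff_empty, f_empty k hdim, f_connected k hdim hg hG hne
      (by rw [uT_gens]; exact isPreconnected_univ)]
    simp
  | @insert η S hηS ih =>
    have hS' : S ⊆ gens k := fun x hx => hS (Finset.mem_insert_of_mem hx)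
    have hη : η ∈ gens (X := X) k := hS (Finset.mem_insert_self η S)
    set T := gens (X := X) k \ insert η S with hT
    have hST : gens (X := X) k \ S = {η} ∪ T := by
      ext x
      simp only [hT, Finset.mem_sdiff, Finset.mem_union, Finset.mem_singleton, Finset.mem_insert]
      constructor
      · rintro ⟨h1, h2⟩
        by_cases h : x = η
        exacts [Or.inl h, Or.inr ⟨h1, fun h' => h'.elim h h2⟩]
      · rintro (rfl | ⟨h1, h2⟩)
        exacts [⟨hη, hηS⟩, ⟨h1, fun h' => h2 (Or.inr h')⟩]
    have hgη : IsGen ({η} : Finset X) := fun x hx => by rw [Finset.mem_singleton.1 hx]; exact hG η hη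
    have hgS : IsGen S := hG.mono hS'
    have hgT : IsGen T := hG.mono Finset.sdiff_subset
    obtain ⟨fa, ha⟩ := card_inter_le k hdim hgη hgS (Finset.disjoint_singleton_left.2 hηS)
    obtain ⟨fb, hb⟩ := card_inter_le k hdim hgη hgT (Finset.disjoint_singleton_left.2 fun h =>
      (Finset.mem_sdiff.1 h).2 (Finset.mem_insert_self η S))
    rw [f_singleton k hdim hg (hG η hη), ← Finset.insert_eq] at ha
    rw [f_singleton k hdim hg (hG η hη), ← hST] at hb
    have hk : kE η ≤ ((uT ({η} : Finset X) ∩ uT S).ncard : ℤ) + ((uT ({η} : Finset X) ∩ uT T).ncard : ℤ) := by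
      have hsub : closure {η} ∩ closure (closure {η})ᶜ ⊆
          (uT ({η} : Finset X) ∩ uT S) ∪ (uT ({η} : Finset X) ∩ uT T) := by
        rintro x ⟨h1, h2⟩
        rw [uT_singleton, ← Set.inter_union_distrib_left]
        refine ⟨h1, closure_minimal (fun y hy => ?_) ((isClosed_uT S).union (isClosed_uT T)) h2⟩
        obtain ⟨ξ, hξ, hmem⟩ := Set.mem_iUnion₂.1 ((uT_gens k).ge (Set.mem_univ y))
        by_cases h : ξ ∈ S
        · exact Or.inl (Set.mem_biUnion (x := ξ) h hmem)
        · refine Or.inr (Set.mem_biUnion (x := ξ) (Finset.mem_sdiff.2 ⟨hξ, fun h' => ?_⟩) hmem)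
          rcases Finset.mem_insert.1 h' with rfl | h'
          exacts [hy hmem, h h']
      have := (Set.ncard_le_ncard hsub (fa.union fb)).trans (Set.ncard_union_le _ _)
      unfold kE
      exact_mod_cast this
    rw [Finset.sum_insert hηS, Finset.card_insert_of_notMem hηS]
    push_cast
    linarith [ih hS']

variable {L : X.Modules} (hL : PicF.IsInvertible L)

include hL

omit [IsAlgClosed k] hg hdim in
theorem isQuotOn_twist {T : Set X} (hT : IsClosed T) (hs : TFOne.Push.IsUnion T) :
    TFOne.IsQuotOn X L T (CohB1.tensorMod L (TFOne.EDeg.OT hT))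
      ((TensorMod.Basic.rightUnit L).inv ≫ TensorMod.Basic.tmap (𝟙 L) (TFOne.EDeg.toOT hT)) := by
  haveI := GlobalSections.isNoetherian_of_proper k X
  let ι := VecSt.subschι X T hT
  have hQ := TFOne.EDeg.isQuotOn_OT hT hs
  have hE : FlatMod.IsFinLocFree L := TensorMod.LocFree.of_rank (TensorMod.LocFree.of_isInvertible hL)
  have hdb := Modules.DualBasis.hasDBases_of_isFinLocFree hE
  haveI := (Modules.DualAdj.adjunction hdb).isLeftAdjoint
  haveI hep : Epi ((Modules.DualAdj.tensorL L).map (TFOne.EDeg.toOT hT)) :=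
    @Functor.map_epi _ _ _ _ _ inferInstance _ _ _ hQ.1
  let P := (Scheme.Modules.pullback ι).obj L
  have hP : PicF.IsInvertible P := PicLoc.isInvertible_pullback ι hL
  haveI := TensorMod.QCohInv.isQCoh_of_isInvertible hP
  haveI : IsLocallyNoetherian (VecSt.subsch X T hT) := LocallyOfFiniteType.isLocallyNoetherian ι
  let e : CohB1.tensorMod L (TFOne.EDeg.OT hT) ≅ (Coh.push ι).obj P :=
    (Modules.ProjFormula.projIso ι hdb).app (Coh.structureModule (VecSt.subsch X T hT)) ≪≫
      (Coh.push ι).mapIso (TensorMod.Basic.rightUnit P)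
  have hPl : FlatMod.IsFinLocFree P := TensorMod.LocFree.of_rank (TensorMod.LocFree.of_isInvertible hP)
  refine ⟨@epi_comp _ _ _ _ _ _ (IsIso.epi_of_iso _) _ hep,
    RefHull.Tensor.isCoh_tensorMod (CurveBundle.Coherent.isCoh hE) hQ.2.1,
    isTorsionFree_of_mono e.hom (TFOne.Push.isTorsionFree_push hT hs (CurveBundle.Coherent.isTorsionFree hPl)),
    subset_antisymm (fun x hx => ?_) fun x hx hsub => ?_⟩
  · by_contra hn
    haveI := TFOne.Push.subsingleton_push hT P hn
    exact hx ((StalkModule.mono_iff_stalkMapₗ_injective e.hom).mp inferInstance x).subsingleton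
  · obtain ⟨z, rfl⟩ := (TFOne.Push.range_subschι hT).ge hx
    haveI := hsub
    haveI : Subsingleton (((Coh.push ι).obj P).presheaf.stalk (ι z)) :=
      ((StalkModule.epi_iff_stalkMapₗ_surjective e.hom).mp inferInstance (ι z)).subsingleton
    haveI : Subsingleton (P.presheaf.stalk z) := (PushClosed.Unit.bijective_pushStalkMap ι P z).2.subsingleton
    obtain ⟨b⟩ := CurveBundle.Coherent.exists_basis_stalk (TensorMod.LocFree.of_isInvertible hP) z
    exact one_ne_zero (congrArg (fun v => v default) ((Subsingleton.elim (b.equivFun.symm fun _ => 1) (b.equivFun.symm 0))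
      |> b.equivFun.symm.injective))

omit [IsAlgClosed k] hg in
/-- Degrees add over components. -/
theorem D_eq_sum {S : Finset X} (hS : IsGen S) :
    D k L 1 (OS S) = ∑ η ∈ S, D k L 1 (OS ({η} : Finset X)) := by
  classical
  haveI := GlobalSections.isNoetherian_of_proper k X
  haveI := GlobalSections.noetherianSpace_of_proper k X
  have hE := TensorMod.LocFree.of_isInvertible hL
  have hg0 : IsGen (∅ : Finset X) := fun η h => absurd h (Finset.notMem_empty η)
  have h0 : D k L 1 (OS (∅ : Finset X)) = 0 := by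
    refine TFOne.EDeg.D_eq_zero hdim hE (isQuotOn_OS hg0).2.1 fun η hη => ?_
    exact TFOne.Generic.subsingleton_stalk (isQuotOn_OS hg0) fun h => by simp [uT] at h
  induction S using Finset.induction with
  | empty => rw [h0, Finset.sum_empty]
  | @insert η S hηS ih =>
    have hgS : IsGen S := hS.mono (Finset.subset_insert η S)
    have hgη : IsGen ({η} : Finset X) := hS.mono (by simp)
    have hW : uT (∅ : Finset X) = ⋃₀ {C | C ∈ irreducibleComponents (X : Type u) ∧
        C ⊆ uT ({η} : Finset X) ∩ uT S} := by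
      rw [show uT (∅ : Finset X) = ∅ by simp [uT], eq_comm, Set.sUnion_eq_empty]
      rintro C ⟨hC, hsub⟩
      exfalso
      obtain ⟨ξ, hξ⟩ := QuasiSober.sober hC.1 (isClosed_of_mem_irreducibleComponents C hC)
      have hgen : ξ ∈ genericPoints X := by
        show closure {ξ} ∈ irreducibleComponents (X : Type u)
        rw [hξ.def]; exact hC
      have h1 := hsub hξ.mem
      exact hηS (Finset.mem_singleton.1 ((mem_uT_iff hgen).1 h1.1) ▸ (mem_uT_iff hgen).1 h1.2)
    have hU : TFOne.IsQuotOn X (Coh.structureModule X) (uT ({η} : Finset X) ∪ uT S) (OS (insert η S))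
        (toOS (insert η S)) := by
      rw [← uT_union, ← Finset.insert_eq]
      exact isQuotOn_OS hS
    obtain ⟨C, hC, hC0, hF⟩ := TFOne.Euler.exists_union_data (TFOne.EDeg.isTF1_structure (X := X))
      (isClosed_uT _) (isClosed_uT _) hW (isQuotOn_OS hgη) (isQuotOn_OS hgS) hU (isQuotOn_OS hg0)
    have h := hF (D k L 1) fun S hS h₁ h₂ h₃ => TFOne.EDeg.D_add hE hS h₁ h₂ h₃
    rw [TFOne.EDeg.D_eq_zero hdim hE hC hC0, h0, add_zero, add_zero, ih hgS] at h
    rw [Finset.sum_insert hηS, h]

/-- **No sections.** -/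
theorem subsingleton_h0 [PreconnectedSpace X] [Nonempty X] (η₀ : X)
    (h₀ : D k L 1 (OS ({η₀} : Finset X)) ≤ kE η₀ - 1)
    (h : ∀ η ∈ genericPoints X, η ≠ η₀ → D k L 1 (OS ({η} : Finset X)) ≤ kE η - 2) :
    Subsingleton (Coh.HH X L 0) := by
  classical
  haveI := GlobalSections.isNoetherian_of_proper k X
  haveI := GlobalSections.noetherianSpace_of_proper k X
  refine (GlobalSections.h0Equiv L).toEquiv.subsingleton_congr.2 (subsingleton_of_forall_eq 0 fun t => ?_)
  by_contra ht
  set G := gens (X := X) k with hGdef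
  have hG : IsGen G := fun η h => (mem_gens k).mp h
  let s : Coh.structureModule X ⟶ L := Clifford.σ L (show Γ(L, ⊤) from t)
  have hO := TFOne.EDeg.isTF1_structure (X := X)
  have hE : FlatMod.IsFinLocFree L := TensorMod.LocFree.of_rank (TensorMod.LocFree.of_isInvertible hL)
  have hLc := CurveBundle.Coherent.isCoh hE
  have hLt := CurveBundle.Coherent.isTorsionFree hE
  haveI := hLc.1
  have hLM : TFOne.IsTF1 X L := ⟨hLc, hLt, fun x _ => by
    obtain ⟨b⟩ := CurveBundle.Coherent.exists_basis_stalk (TensorMod.LocFree.of_isInvertible hL) x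
    exact ⟨b.equivFun.trans (LinearEquiv.funUnique (Fin 1) _ _)⟩⟩
  let S := G.filter fun η => stalkMapₗ s η ≠ 0
  let S' := G \ S
  have hgS : IsGen S := hG.mono (Finset.filter_subset _ _)
  have hgS' : IsGen S' := hG.mono Finset.sdiff_subset
  have hSne : S.Nonempty := by
    by_contra hne
    have hs : s = 0 := TFOne.Generic.eq_zero_of_generic hLt s fun η hη => by
      by_contra h0
      exact hne ⟨η, Finset.mem_filter.2 ⟨(mem_gens k).2 hη, h0⟩⟩
    apply ht
    have h1 := Clifford.σ_one L (show Γ(L, ⊤) from t)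
    rw [show Clifford.σ L (show Γ(L, ⊤) from t) = 0 from hs] at h1
    exact h1.symm.trans (by rfl)
  have hq' := isQuotOn_twist k hL (isClosed_uT S') (isUnion_uT hgS')
  set π' := (TensorMod.Basic.rightUnit L).inv ≫ TensorMod.Basic.tmap (𝟙 L) (TFOne.EDeg.toOT (isClosed_uT S'))
    with hπ'
  haveI := hq'.1
  haveI := hq'.2.1.1
  have hsπ : s ≫ π' = 0 := TFOne.Generic.eq_zero_of_generic hq'.2.2.1 _ fun η hη => by
    rw [stalkMapₗ_comp]
    by_cases hηS : η ∈ S
    · refine LinearMap.ext fun v => @Subsingleton.elim _ (TFOne.Generic.subsingleton_stalk hq' fun h' => ?_) _ _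
      exact (Finset.mem_sdiff.1 ((mem_uT_iff hη).1 h')).2 hηS
    · have h0 : stalkMapₗ s η = 0 := by
        by_contra h0
        exact hηS (Finset.mem_filter.2 ⟨(mem_gens k).2 hη, h0⟩)
      rw [h0, LinearMap.comp_zero]
  obtain ⟨hK, eK⟩ := euler_kernel k hLc hq'.2.1 π'
  haveI := hK.1
  have hKt : TorSh.IsTorsionFree (kernel π') := isTorsionFree_of_mono (kernel.ι π') hLt
  let s' : Coh.structureModule X ⟶ kernel π' := kernel.lift π' s hsπ
  have hq := isQuotOn_OS hgS
  have hι := fun η => (StalkModule.mono_iff_stalkMapₗ_injective (kernel.ι π')).mp inferInstance η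
  have hKzero : ∀ η ∈ genericPoints X, η ∉ uT S → Subsingleton ((kernel π').presheaf.stalk η) := by
    intro η hη hn
    refine subsingleton_of_forall_eq 0 fun v => hι η ?_
    have hS' : η ∈ uT S' := mem_uT_of_mem (Finset.mem_sdiff.2 ⟨(mem_gens k).2 hη, fun h => hn (mem_uT_of_mem h)⟩)
    refine (TFOne.Generic.bijective_stalk hLM hq' hη hS').1 ?_
    rw [← stalk_comp_apply, kernel.condition, stalkMapₗ_zero, map_zero, map_zero]
    rfl
  obtain ⟨g, hg'⟩ := TFOne.Generic.exists_factor hO hq hKt s' fun η hη hn =>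
    LinearMap.ext fun v => @Subsingleton.elim _ (hKzero η hη hn) _ _
  haveI := hq.2.1.1
  have hgb : ∀ η ∈ genericPoints X, Function.Bijective (stalkMapₗ g η) := by
    intro η hη
    by_cases hηS : η ∈ uT S
    · have hs0 := (Finset.mem_filter.1 ((mem_uT_iff hη).1 hηS)).2
      have hF : IsField (X.presheaf.stalk η) :=
        ModelFibre.MaxPoint.isField_stalk fun y hy => Flat55.GenericPoints.eq_of_specializes hη hy
      obtain ⟨eO⟩ := hO.2.2 η hη
      obtain ⟨eL⟩ := hLM.2.2 η hη
      obtain ⟨v, hv⟩ : ∃ v, stalkMapₗ s η v ≠ 0 := by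
        by_contra hc
        push Not at hc
        exact hs0 (LinearMap.ext hc)
      obtain ⟨c, hc⟩ := hF.mul_inv_cancel (a := eL (stalkMapₗ s η v)) (by simpa using hv)
      have hsur : Function.Surjective (stalkMapₗ s η) := fun w => ⟨(eL w * c) • v, eL.injective (by
        rw [map_smul, map_smul, smul_eq_mul, mul_assoc, mul_comm c, hc, mul_one])⟩
      have hinj : Function.Injective (stalkMapₗ s η) := (injective_iff_map_eq_zero _).2 fun a ha => by
        by_contra ha0
        obtain ⟨d, hd⟩ := hF.mul_inv_cancel (a := eO a) (by simpa using ha0)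
        have : v = (eO v * d) • a := eO.injective (by
          rw [map_smul, smul_eq_mul, mul_assoc, mul_comm d, hd, mul_one])
        exact hv (by rw [this, map_smul, ha, smul_zero])
      have hb := TFOne.Generic.bijective_stalk hO hq hη hηS
      have hcomp : ∀ a, stalkMapₗ (kernel.ι π') η (stalkMapₗ g η (stalkMapₗ (toOS S) η a)) = stalkMapₗ s η a :=
        fun a => by rw [← stalk_comp_apply, ← stalk_comp_apply, reassoc_of% hg', kernel.lift_ι]
      refine ⟨fun a b hab => ?_, fun w => ?_⟩
      · obtain ⟨a, rfl⟩ := hb.2 a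
        obtain ⟨b, rfl⟩ := hb.2 b
        exact congrArg _ (hinj (by rw [← hcomp, ← hcomp, hab]))
      · obtain ⟨a, ha⟩ := hsur (stalkMapₗ (kernel.ι π') η w)
        exact ⟨_, hι η ((hcomp a).trans ha)⟩
    · haveI := TFOne.Generic.subsingleton_stalk hq hηS
      haveI := hKzero η hη hηS
      exact ⟨fun a b _ => Subsingleton.elim _ _, fun w => ⟨0, Subsingleton.elim _ _⟩⟩
  haveI : Mono g := TFOne.Generic.mono_of_generic hq.2.2.1 g fun η hη => (hgb η hη).1
  have hle : f k S ≤ Curv2.euler k X (kernel π') :=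
    euler_le_of_mono k hdim hq.2.1 hK g fun η hη => (hgb η hη).2
  -- `O` is the structure sheaf on all components
  have hqG := isQuotOn_OS hG
  haveI := hqG.1
  haveI := hO.1.1
  haveI : Mono (toOS G) := TFOne.Generic.mono_of_generic hO.2.1 _ fun η hη =>
    (TFOne.Generic.bijective_stalk hO hqG hη (mem_uT_of_mem ((mem_gens k).2 hη))).1
  haveI := isIso_of_mono_of_epi (toOS G)
  let eG : Coh.structureModule X ≅ OS G := asIso (toOS G)
  have eLG : Curv2.euler k X L = D k L 1 (OS G) + f k G := by
    have e1 : Curv2.euler k X L = Curv2.euler k X (CohB1.tensorMod L (OS G)) :=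
      Euler.euler_eq_of_iso ((TensorMod.Basic.rightUnit L).symm ≪≫ TensorMod.Basic.tensorIso (Iso.refl L) eG)
    simp only [D, f, Nat.cast_one, one_mul]
    linarith
  have eLS : Curv2.euler k X (CohB1.tensorMod L (OS S')) = D k L 1 (OS S') + f k S' := by
    simp only [D, f, Nat.cast_one, one_mul]
    ring
  have hfG : f k G = 1 := f_connected k hdim hg hG (hSne.mono (Finset.filter_subset _ _))
    (by rw [hGdef, uT_gens]; exact isPreconnected_univ)
  have hsplit : D k L 1 (OS G) = D k L 1 (OS S') + ∑ η ∈ S, D k L 1 (OS ({η} : Finset X)) := by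
    rw [D_eq_sum k hdim hL hG, D_eq_sum k hdim hL hgS']
    exact (Finset.sum_sdiff (Finset.filter_subset _ G)).symm
  have hsum : ∑ η ∈ S, D k L 1 (OS ({η} : Finset X)) ≤ ∑ η ∈ S, (kE η - 2) + 1 := by
    calc ∑ η ∈ S, D k L 1 (OS ({η} : Finset X))
        ≤ ∑ η ∈ S, ((kE η - 2) + if η = η₀ then 1 else 0) := by
          refine Finset.sum_le_sum fun η hη => ?_
          by_cases he : η = η₀
          · subst he; rw [if_pos rfl]; linarith
          · rw [if_neg he, add_zero]; exact h η (hgS η hη) he
      _ ≤ ∑ η ∈ S, (kE η - 2) + 1 := by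
          rw [Finset.sum_add_distrib, Finset.sum_ite_eq']
          split_ifs <;> simp
  have hk := sum_kE_le k hdim hg (S := S) (Finset.filter_subset _ _)
  rw [Finset.sum_sub_distrib, Finset.sum_const, nsmul_eq_mul] at hsum
  have h1 := one_le_f k hdim hg hgS hSne
  rw [eK] at hle
  change f k S ≤ Curv2.euler k X L - Curv2.euler k X (CohB1.tensorMod L (OS S')) at hle
  change _ ≤ 2 * (S.card : ℤ) - f k S + f k S' - 1 at hk
  linarith

end Groth.Agent.Lib.TreeVan29
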