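import Groth.Agent.Lib.TreeVan29.Main
import Groth.Agent.H95.LefFEt.Adjunct
import Groth.Agent.H75.RedKer
import Groth.Agent.Lib.DerivedOX.PushExact

/-!
# The component sequence on a curve without `H¹(O)`

If the components of a connected reduced curve with `H¹(O) = 0` are divided into two sets, the ideal of the
second union is the ideal of the reduced intersection on the first.
-/

set_option autoImplicit false
set_option linter.style.haveILetI false
universe u

open CategoryTheory CategoryTheory.Limits AlgebraicGeometry Opposite TopologicalSpace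

noncomputable section

namespace Groth.Agent.Lib.TreeVan29

open Groth.Agent.Lib Groth.Agent.Lib.Modules Groth.Agent.Lib.Curves Groth.Agent.Lib.Curves.SubUnion
open Groth.Agent.Lib.Curves.LES (mapK exactK₂ isoK)
open Groth.Agent.Lib.Modules.StalkModule (stalkMapₗ stalkMapₗ_comp stalkMapₗ_zero)

set_option synthInstance.maxHeartbeats 200000

variable {X : Scheme.{u}} (k : Type u) [Field k] [IsAlgClosed k] [X.Over (Spec (CommRingCat.of k))]
  [IsProper (X ↘ Spec (CommRingCat.of k))] [IsReduced X] (hdim : topologicalKrullDim X ≤ 1)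
  (hg : Subsingleton (Coh.HH X (Coh.structureModule X) 1))

omit [IsAlgClosed k] [X.Over (Spec (CommRingCat.of k))] [IsProper (X ↘ Spec (CommRingCat.of k))] [IsReduced X] in
theorem finite_connectedComponents (Y : Type u) [TopologicalSpace Y] [NoetherianSpace Y] :
    Finite (_root_.ConnectedComponents Y) := by
  haveI : Finite (irreducibleComponents Y) := NoetherianSpace.finite_irreducibleComponents.to_subtype
  refine Finite.of_surjective (fun C : irreducibleComponents Y =>
    ConnectedComponents.mk C.2.1.1.some) fun c => ?_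
  obtain ⟨y, rfl⟩ := ConnectedComponents.surjective_coe c
  refine ⟨⟨irreducibleComponent y, irreducibleComponent_mem_irreducibleComponents y⟩, ?_⟩
  refine ConnectedComponents.coe_eq_coe'.2 ?_
  exact isIrreducible_irreducibleComponent.isConnected.isPreconnected.subset_connectedComponent
    mem_irreducibleComponent (Set.Nonempty.some_mem _)

omit [IsAlgClosed k] [X.Over (Spec (CommRingCat.of k))] [IsProper (X ↘ Spec (CommRingCat.of k))] [IsReduced X] in
theorem isClosed_preimage_mk (Y : Type u) [TopologicalSpace Y] [NoetherianSpace Y]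
    (s : Set (_root_.ConnectedComponents Y)) : IsClosed ((ConnectedComponents.mk : Y → _) ⁻¹' s) := by
  rw [← isOpen_compl_iff, isOpen_iff_forall_mem_open]
  intro y hy
  exact ⟨connectedComponent y, fun z hz => by
    rw [Set.mem_compl_iff, Set.mem_preimage, ConnectedComponents.coe_eq_coe'.2 hz]
    exact hy, H0Components.isOpen_connectedComponent y, mem_connectedComponent⟩

include k hdim hg

theorem f_eq_card {S : Finset X} (hS : IsGen S) :
    (f k S : ℤ) = (Nat.card (_root_.ConnectedComponents (VecSt.subsch X (uT S) (isClosed_uT S))) : ℤ) := by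
  haveI := GlobalSections.isNoetherian_of_proper k X
  haveI := GlobalSections.noetherianSpace_of_proper k X
  have e : Curv2.euler k X (OS S) = (Euler.hdim k X (OS S) 0 : ℤ) - (Euler.hdim k X (OS S) 1 : ℤ) :=
    Euler.euler_eq (Positivity.subsingleton_HH_of_two_le hdim _)
  haveI := subsingleton_h1 k hdim hg hS
  unfold f
  rw [e]
  have h1 : Euler.hdim k X (OS S) 1 = 0 := Module.finrank_zero_of_subsingleton
  rw [h1]
  let iT := VecSt.subschι X (uT S) (isClosed_uT S)
  letI : (VecSt.subsch X (uT S) (isClosed_uT S)).Over (Spec (CommRingCat.of k)) :=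
    ⟨iT ≫ (X ↘ Spec (CommRingCat.of k))⟩
  haveI : IsProper ((VecSt.subsch X (uT S) (isClosed_uT S)) ↘ Spec (CommRingCat.of k)) :=
    inferInstanceAs (IsProper (iT ≫ (X ↘ Spec (CommRingCat.of k))))
  haveI := GlobalSections.noetherianSpace_of_proper k (VecSt.subsch X (uT S) (isClosed_uT S))
  haveI := TensorMod.QCohInv.isQCoh_structureModule (VecSt.subsch X (uT S) (isClosed_uT S))
  let eL := ZarCoh.Linear.affineLinearEquiv (A := k) iT rfl
    (Coh.structureModule (VecSt.subsch X (uT S) (isClosed_uT S))) 0
  haveI : FiniteDimensional k (Coh.HH X (OS S) 0) :=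
    (Finiteness.isGood_of_isCoh (k := k) hdim (isQuotOn_OS hS).2.1).fin₀
  haveI : FiniteDimensional k (Coh.HH (VecSt.subsch X (uT S) (isClosed_uT S))
      (Coh.structureModule (VecSt.subsch X (uT S) (isClosed_uT S))) 0) := Module.Finite.equiv eL
  show ((Module.finrank k (Coh.HH X (OS S) 0) : ℤ) - (0 : ℕ)) = _
  rw [eL.finrank_eq, H0Components.finrank_h0_eq_card k]
  simp

open scoped Classical in
/-- Connectedness: intersection points glue all connected components. -/
theorem card_inter_ge [PreconnectedSpace X] [Nonempty X] {A B : Finset X} (hA : IsGen A) (hB : IsGen B)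
    (hfin : (uT A ∩ uT B).Finite) (hcov : uT A ∪ uT B = Set.univ) :
    f k A + f k B ≤ ((uT A ∩ uT B).ncard : ℤ) + 1 := by
  haveI := GlobalSections.noetherianSpace_of_proper k X
  rw [f_eq_card k hdim hg hA, f_eq_card k hdim hg hB]
  set SA := VecSt.subsch X (uT A) (isClosed_uT A)
  set SB := VecSt.subsch X (uT B) (isClosed_uT B)
  let iA : SA ⟶ X := VecSt.subschι X (uT A) (isClosed_uT A)
  let iB : SB ⟶ X := VecSt.subschι X (uT B) (isClosed_uT B)
  haveI : NoetherianSpace SA := iA.isClosedEmbedding.isInducing.noetherianSpace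
  haveI : NoetherianSpace SB := iB.isClosedEmbedding.isInducing.noetherianSpace
  haveI := finite_connectedComponents SA
  haveI := finite_connectedComponents SB
  have hrA := TFOne.Push.range_subschι (isClosed_uT A)
  have hrB := TFOne.Push.range_subschι (isClosed_uT B)
  choose pA hpA using fun x (hx : x ∈ uT A) => hrA.ge hx
  choose pB hpB using fun x (hx : x ∈ uT B) => hrB.ge hx
  haveI : Fintype (uT A ∩ uT B : Set X) := hfin.fintype
  let Φ : ((_root_.ConnectedComponents SA → k) × (_root_.ConnectedComponents SB → k)) →ₗ[k]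
      ((uT A ∩ uT B : Set X) → k) :=
    { toFun := fun ab z => ab.1 (ConnectedComponents.mk (pA z.1 z.2.1)) -
        ab.2 (ConnectedComponents.mk (pB z.1 z.2.2))
      map_add' := fun a b => funext fun z => by simp; ring
      map_smul' := fun c a => funext fun z => by simp; ring }
  have hker : LinearMap.ker Φ ≤ Submodule.span k {((fun _ => 1), (fun _ => 1))} := by
    rintro ⟨a, b⟩ hab
    rw [LinearMap.mem_ker] at hab
    have heq : ∀ x (hxA : x ∈ uT A) (hxB : x ∈ uT B),
        a (ConnectedComponents.mk (pA x hxA)) = b (ConnectedComponents.mk (pB x hxB)) := fun x hxA hxB =>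
      sub_eq_zero.1 (congrFun hab ⟨x, hxA, hxB⟩)
    let g : X → k := fun x => if h : x ∈ uT A then a (ConnectedComponents.mk (pA x h))
      else if h' : x ∈ uT B then b (ConnectedComponents.mk (pB x h')) else 0
    have hgA : ∀ w : SA, g (iA w) = a (ConnectedComponents.mk w) := fun w => by
      have hw : iA w ∈ uT A := hrA.le (Set.mem_range_self w)
      simp only [g, dif_pos hw]
      rw [iA.isClosedEmbedding.injective (hpA (iA w) hw)]
    have hgB : ∀ w : SB, g (iB w) = b (ConnectedComponents.mk w) := fun w => by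
      have hw : iB w ∈ uT B := hrB.le (Set.mem_range_self w)
      by_cases hwA : iB w ∈ uT A
      · simp only [g, dif_pos hwA]
        rw [heq _ hwA hw, iB.isClosedEmbedding.injective (hpB (iB w) hw)]
      · simp only [g, dif_neg hwA, dif_pos hw]
        rw [iB.isClosedEmbedding.injective (hpB (iB w) hw)]
    have hcl : ∀ s : Set k, IsClosed (g ⁻¹' s) := by
      intro s
      have : g ⁻¹' s = iA '' (ConnectedComponents.mk ⁻¹' (a ⁻¹' s)) ∪
          iB '' (ConnectedComponents.mk ⁻¹' (b ⁻¹' s)) := by
        ext x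
        constructor
        · intro hx
          rcases hcov.ge (Set.mem_univ x) with h | h
          · refine Or.inl ⟨pA x h, ?_, hpA x h⟩
            show a (ConnectedComponents.mk (pA x h)) ∈ s
            rw [← hgA, show iA (pA x h) = x from hpA x h]
            exact hx
          · refine Or.inr ⟨pB x h, ?_, hpB x h⟩
            show b (ConnectedComponents.mk (pB x h)) ∈ s
            rw [← hgB, show iB (pB x h) = x from hpB x h]
            exact hx
        · rintro (⟨w, hw, rfl⟩ | ⟨w, hw, rfl⟩)
          · show g (iA w) ∈ s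
            rw [hgA]; exact hw
          · show g (iB w) ∈ s
            rw [hgB]; exact hw
      rw [this]
      exact (iA.isClosedEmbedding.isClosedMap _ (isClosed_preimage_mk SA _)).union
        (iB.isClosedEmbedding.isClosedMap _ (isClosed_preimage_mk SB _))
    obtain ⟨x₀⟩ := ‹Nonempty X›
    have hconst : ∀ x, g x = g x₀ := fun x => by
      have hop : IsOpen (g ⁻¹' {g x₀}) := by
        have := (hcl {g x₀}ᶜ).isOpen_compl
        rwa [← Set.preimage_compl, compl_compl] at this
      exact (IsClopen.eq_univ ⟨hcl _, hop⟩ ⟨x₀, rfl⟩).ge (Set.mem_univ x)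
    refine Submodule.mem_span_singleton.2 ⟨g x₀, Prod.ext (funext fun c => ?_) (funext fun c => ?_)⟩
    · obtain ⟨w, rfl⟩ := ConnectedComponents.surjective_coe c
      simp [← hgA w, hconst (iA w)]
    · obtain ⟨w, rfl⟩ := ConnectedComponents.surjective_coe c
      simp [← hgB w, hconst (iB w)]
  haveI : Fintype (_root_.ConnectedComponents SA) := Fintype.ofFinite _
  haveI : Fintype (_root_.ConnectedComponents SB) := Fintype.ofFinite _
  have h1 := LinearMap.finrank_range_add_finrank_ker Φ
  have h2 : Module.finrank k (LinearMap.range Φ) ≤ (uT A ∩ uT B).ncard := by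
    refine (Submodule.finrank_le _).trans ?_
    rw [Module.finrank_pi, ← Nat.card_eq_fintype_card, Nat.card_coe_set_eq]
  have h3 : Module.finrank k (LinearMap.ker Φ) ≤ 1 :=
    (Submodule.finrank_mono hker).trans ((finrank_span_le_card _).trans (by simp))
  rw [Module.finrank_prod, Module.finrank_pi, Module.finrank_pi, ← Nat.card_eq_fintype_card,
    ← Nat.card_eq_fintype_card] at h1
  omega

open scoped Classical in
/-- The ideal of the union `B` is the ideal of the reduced intersection on `A`. -/
theorem nonempty_kernel_iso [PreconnectedSpace X] [Nonempty X] {A B : Finset X} (hA : IsGen A) (hB : IsGen B)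
    (hAB : Disjoint A B) (hcov : uT A ∪ uT B = Set.univ) {W : Scheme.{u}} (iW : W ⟶ X) [IsClosedImmersion iW]
    [IsReduced W] (hW : Set.range iW = uT A ∩ uT B)
    (qA : OS A ⟶ (Scheme.Modules.pushforward iW).obj (Coh.structureModule W))
    (hqA' : toOS A ≫ qA = _root_.ClSub.unitToPush iW) (hQe : Epi (_root_.ClSub.unitToPush iW)) :
    Nonempty (kernel (toOS B) ≅ kernel qA) := by
  haveI := GlobalSections.isNoetherian_of_proper k X
  haveI := GlobalSections.noetherianSpace_of_proper k X
  have hqA := isQuotOn_OS hA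
  have hqB := isQuotOn_OS hB
  have hO := TFOne.EDeg.isTF1_structure (X := X)
  obtain ⟨hfin, -⟩ := card_inter_le k hdim hA hB hAB
  have hgen : ∀ η ∈ genericPoints X, η ∉ uT A ∩ uT B := fun η hη h =>
    Finset.disjoint_left.1 hAB ((mem_uT_iff hη).1 h.1) ((mem_uT_iff hη).1 h.2)
  haveI := hqA.1
  haveI := hqB.1
  haveI : Epi qA := epi_of_epi_fac hqA'
  let Q := (Scheme.Modules.pushforward iW).obj (Coh.structureModule W)
  obtain ⟨qB, hqB'⟩ : ∃ qB : OS B ⟶ Q, toOS B ≫ qB = _root_.ClSub.unitToPush iW := by
    let iB := VecSt.subschι X (uT B) (isClosed_uT B)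
    have hle : iB.ker ≤ iW.ker := by
      rw [H75.RedKer.ker_eq_vanishingIdeal iW]
      refine le_trans (le_of_eq (Scheme.IdealSheafData.ker_subschemeι _))
        (Scheme.IdealSheafData.gc.monotone_u ?_)
      show closure (Set.range iW) ⊆ uT B
      exact closure_minimal (hW.le.trans Set.inter_subset_right) (isClosed_uT B)
    suffices hfac : ∀ g : W ⟶ X, IsClosedImmersion.lift iB iW hle ≫ iB = g →
        ∃ qB : OS B ⟶ (Scheme.Modules.pushforward g).obj (Coh.structureModule W),
          toOS B ≫ qB = _root_.ClSub.unitToPush g from hfac iW (IsClosedImmersion.lift_fac iB iW hle)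
    rintro g rfl
    refine ⟨(Scheme.Modules.pushforward iB).map (_root_.ClSub.unitToPush (IsClosedImmersion.lift iB iW hle)) ≫
      (Scheme.Modules.pushforwardComp (IsClosedImmersion.lift iB iW hle) iB).hom.app _, ?_⟩
    rw [show toOS B = _root_.ClSub.unitToPush iB from toOT_eq _]
    exact H95.LefFEt.Adjunct.unitToPush_comp _ iB
  haveI := hQe
  haveI : IsLocallyNoetherian W := LocallyOfFiniteType.isLocallyNoetherian iW
  have hQc : Coh.IsCoh Q := Cyc.Dev.SchemeEquiv.isCoh_push _ (TFOne.EDeg.isTF1_structure (X := W)).1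
  obtain ⟨hK, eK⟩ := euler_kernel k hO.1 hqB.2.1 (toOS B)
  obtain ⟨hKA, eKA⟩ := euler_kernel k hqA.2.1 hQc qA
  let j : kernel (toOS B) ⟶ kernel qA := kernel.lift qA (kernel.ι (toOS B) ≫ toOS A)
    (by rw [Category.assoc, hqA', ← hqB', ← Category.assoc, kernel.condition, zero_comp])
  haveI := hK.1
  have hKt : TorSh.IsTorsionFree (kernel (toOS B)) := isTorsionFree_of_mono (kernel.ι (toOS B)) hO.2.1
  have hj : ∀ η ∈ genericPoints X, Function.Bijective (stalkMapₗ j η) := by
    intro η hη
    have hι := (StalkModule.mono_iff_stalkMapₗ_injective (kernel.ι (toOS B))).mp inferInstance η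
    have hι' := (StalkModule.mono_iff_stalkMapₗ_injective (kernel.ι qA)).mp inferInstance η
    have hjι : ∀ v, stalkMapₗ (kernel.ι qA) η (stalkMapₗ j η v) =
        stalkMapₗ (toOS A) η (stalkMapₗ (kernel.ι (toOS B)) η v) :=
      fun v => by rw [← stalk_comp_apply, ← stalk_comp_apply, kernel.lift_ι]
    by_cases hηA : η ∈ uT A
    · have hηB : η ∉ uT B := fun h => hgen η hη ⟨hηA, h⟩
      have hb := TFOne.Generic.bijective_stalk hO hqA hη hηA
      refine ⟨fun a b hab => hι (hb.1 (by rw [← hjι, ← hjι, hab])), fun w => ?_⟩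
      obtain ⟨u, hu⟩ := hb.2 (stalkMapₗ (kernel.ι qA) η w)
      obtain ⟨v, hv⟩ := mem_stalk_kernel (toOS B) (v := u)
        (@Subsingleton.elim _ (TFOne.Generic.subsingleton_stalk hqB hηB) _ _)
      exact ⟨v, hι' (by rw [hjι, hv, hu])⟩
    · haveI := TFOne.Generic.subsingleton_stalk hqA hηA
      haveI : Subsingleton ((kernel qA).presheaf.stalk η) := hι'.subsingleton
      have hηB : η ∈ uT B := (hcov.ge (Set.mem_univ η)).resolve_left hηA
      refine ⟨fun a b _ => hι ((TFOne.Generic.bijective_stalk hO hqB hη hηB).1 ?_),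
        fun w => ⟨0, Subsingleton.elim _ _⟩⟩
      rw [← stalk_comp_apply, ← stalk_comp_apply, kernel.condition, stalkMapₗ_zero]
      rfl
  haveI : Mono j := TFOne.Generic.mono_of_generic hKt j fun η hη => (hj η hη).1
  -- count
  have hrW : ∀ w, iW w ∈ uT A ∩ uT B := fun w => hW.le (Set.mem_range_self w)
  have hcount : ((uT A ∩ uT B).ncard : ℤ) = Curv2.euler k X Q := by
    have hQ0 : Positivity.IsTorsion Q := fun x hx =>
      PushClosed.Unit.subsingleton_stalk_push iW _ (by rw [hW]; exact hgen x hx)
    rw [hQ0.euler hdim]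
    letI : W.Over (Spec (CommRingCat.of k)) := ⟨iW ≫ (X ↘ Spec (CommRingCat.of k))⟩
    haveI := TensorMod.QCohInv.isQCoh_structureModule W
    let eL := ZarCoh.Linear.affineLinearEquiv (A := k) iW rfl (Coh.structureModule W) 0
    haveI : IsProper (W ↘ Spec (CommRingCat.of k)) :=
      inferInstanceAs (IsProper (iW ≫ (X ↘ Spec (CommRingCat.of k))))
    haveI : NoetherianSpace W := GlobalSections.noetherianSpace_of_proper k _
    haveI : FiniteDimensional k (Coh.HH X Q 0) := (Finiteness.isGood_of_isCoh (k := k) hdim hQc).fin₀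
    haveI : FiniteDimensional k (Coh.HH W (Coh.structureModule W) 0) := Module.Finite.equiv eL
    show _ = ((Module.finrank k (Coh.HH X ((Coh.push iW).obj (Coh.structureModule W)) 0) : ℕ) : ℤ)
    rw [eL.finrank_eq, H0Components.finrank_h0_eq_card k]
    haveI : Finite ↥(uT A ∩ uT B) := hfin.to_subtype
    let φ : W → ↥(uT A ∩ uT B) := fun z => ⟨iW z, hrW z⟩
    have hinj : Function.Injective φ := fun a b e => iW.isClosedEmbedding.injective (congrArg Subtype.val e)
    have hsurj : Function.Surjective φ := fun z => by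
      obtain ⟨w, hw⟩ := hW.ge z.2
      exact ⟨w, Subtype.ext hw⟩
    haveI : Finite W := Finite.of_injective φ hinj
    haveI : T1Space W := ⟨fun w => by
      have hc := (H97.DimOneSetup.isClosed_singleton_of_not_gen hdim
        (fun h => hgen _ h (hrW w))).preimage iW.continuous
      rwa [show ({iW w} : Set X) = iW '' {w} from Set.image_singleton.symm,
        iW.isClosedEmbedding.injective.preimage_image] at hc⟩
    have e1 : Nat.card (_root_.ConnectedComponents W) = Nat.card W := by
      refine (Nat.card_eq_of_bijective _ ⟨fun a b e => ?_, ConnectedComponents.surjective_coe⟩).symm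
      have := ConnectedComponents.coe_eq_coe.1 e
      rw [connectedComponent_eq_singleton, connectedComponent_eq_singleton] at this
      exact Set.singleton_eq_singleton_iff.1 this
    rw [e1, Nat.card_eq_of_bijective φ ⟨hinj, hsurj⟩, Nat.card_coe_set_eq]
  have hge := card_inter_ge k hdim hg hA hB hfin hcov
  have hall : Curv2.euler k X (Coh.structureModule X) = 1 := by
    have hG : IsGen (gens (X := X) k) := fun η h => (mem_gens k).mp h
    have hqG := isQuotOn_OS hG
    haveI := hqG.1
    haveI := hO.1.1
    haveI : Mono (toOS (gens (X := X) k)) := TFOne.Generic.mono_of_generic hO.2.1 _ fun η hη =>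
      (TFOne.Generic.bijective_stalk hO hqG hη (mem_uT_of_mem ((mem_gens k).2 hη))).1
    haveI := isIso_of_mono_of_epi (toOS (gens (X := X) k))
    rw [Euler.euler_eq_of_iso (asIso (toOS (gens (X := X) k)))]
    obtain ⟨x⟩ := ‹Nonempty X›
    obtain ⟨η, hη, -⟩ := H97.AffineImages.exists_gen_specializes x
    exact f_connected k hdim hg hG ⟨η, (mem_gens k).2 hη⟩ (by rw [uT_gens]; exact isPreconnected_univ)
  have hC : Coh.IsCoh (cokernel j) := CohBasics.Closure.isCoh_cokernel j hK.1 hKA
  have hCt : Positivity.IsTorsion (cokernel j) := fun η hη =>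
    subsingleton_cokernel_stalk j fun v => (hj η hη).2 v
  have hse : Curv2.euler k X (kernel qA) = Curv2.euler k X (kernel (toOS B)) + Curv2.euler k X (cokernel j) :=
    ParBun.Proper.euler_add (S := ShortComplex.mk j (cokernel.π j) (cokernel.condition j))
      { exact := ShortComplex.exact_of_g_is_cokernel _ (cokernelIsCokernel j) } hK hKA hC
  have hle : Curv2.euler k X (cokernel j) ≤ 0 := by
    unfold f at hge
    change _ = Curv2.euler k X (OS A) - Curv2.euler k X Q at eKA
    omega
  rw [hCt.euler hdim] at hle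
  haveI : FiniteDimensional k (Coh.HH X (cokernel j) 0) := (Finiteness.isGood_of_isCoh (k := k) hdim hC).fin₀
  have hz : IsZero (cokernel j) :=
    haveI := hCt.flasque hdim
    Positivity.isZero_of_flasque ((Module.finrank_eq_zero_iff_of_free k _).1 (by omega))
  haveI : Epi j := Preadditive.epi_of_isZero_cokernel j hz
  haveI := isIso_of_mono_of_epi j
  exact ⟨asIso j⟩

/-- `h¹(F) = h¹(F|_B)` when `H¹(A, F|_A ⊗ I_P) = 0`, `P` the reduced intersection. -/
theorem finrank_h1_eq [PreconnectedSpace X] [Nonempty X] {A B : Finset X} (hA : IsGen A) (hB : IsGen B)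
    (hAB : Disjoint A B) (hcov : uT A ∪ uT B = Set.univ) {F : X.Modules} (hF : FlatMod.IsFinLocFree F)
    (P : (VecSt.subsch X (uT A) (isClosed_uT A)).IdealSheafData) [IsReduced P.subscheme]
    (hP : ∀ x, x ∈ (P.support : Set (VecSt.subsch X (uT A) (isClosed_uT A))) ↔
      VecSt.subschι X (uT A) (isClosed_uT A) x ∈ uT B)
    (hvan : Subsingleton (Coh.HH (VecSt.subsch X (uT A) (isClosed_uT A))
      (CohB1.tensorMod ((Scheme.Modules.pullback (VecSt.subschι X (uT A) (isClosed_uT A))).obj F)
        (_root_.ClSub.idealMod P)) 1)) :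
    letI : (VecSt.subsch X (uT B) (isClosed_uT B)).Over (Spec (CommRingCat.of k)) :=
      ⟨VecSt.subschι X (uT B) (isClosed_uT B) ≫ (X ↘ Spec (CommRingCat.of k))⟩
    Module.finrank k (Coh.HH X F 1) = Module.finrank k (Coh.HH (VecSt.subsch X (uT B) (isClosed_uT B))
      ((Scheme.Modules.pullback (VecSt.subschι X (uT B) (isClosed_uT B))).obj F) 1) := by
  haveI := GlobalSections.isNoetherian_of_proper k X
  haveI := GlobalSections.noetherianSpace_of_proper k X
  let iA := VecSt.subschι X (uT A) (isClosed_uT A)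
  let iB := VecSt.subschι X (uT B) (isClosed_uT B)
  letI : (VecSt.subsch X (uT B) (isClosed_uT B)).Over (Spec (CommRingCat.of k)) :=
    ⟨iB ≫ (X ↘ Spec (CommRingCat.of k))⟩
  letI : (VecSt.subsch X (uT A) (isClosed_uT A)).Over (Spec (CommRingCat.of k)) :=
    ⟨iA ≫ (X ↘ Spec (CommRingCat.of k))⟩
  haveI : IsLocallyNoetherian (VecSt.subsch X (uT A) (isClosed_uT A)) :=
    LocallyOfFiniteType.isLocallyNoetherian iA
  let iW := P.subschemeι ≫ iA
  have hW : Set.range iW = uT A ∩ uT B := by
    have hrA := TFOne.Push.range_subschι (isClosed_uT A)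
    ext x
    constructor
    · rintro ⟨w, rfl⟩
      exact ⟨hrA.le ⟨P.subschemeι w, rfl⟩, (hP _).1 ((Scheme.IdealSheafData.range_subschemeι P).le ⟨w, rfl⟩)⟩
    · rintro ⟨h1, h2⟩
      obtain ⟨v, rfl⟩ := hrA.ge h1
      obtain ⟨w, hw⟩ := (Scheme.IdealSheafData.range_subschemeι P).ge ((hP v).2 h2)
      exact ⟨w, congrArg iA hw⟩
  have hdb := Modules.DualBasis.hasDBases_of_isFinLocFree hF
  haveI hpe : Epi ((Scheme.Modules.pushforward iA).map (_root_.ClSub.toSubscheme P)) := by
    haveI := DerivedOX.PushExact.preservesFiniteColimits_pushforward iA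
    exact (Coh.push iA).map_epi _
  let qA : OS A ⟶ (Scheme.Modules.pushforward iW).obj (Coh.structureModule P.subscheme) :=
    (Scheme.Modules.pushforward iA).map (_root_.ClSub.toSubscheme P) ≫
      (Scheme.Modules.pushforwardComp P.subschemeι iA).hom.app _
  have hqA' : toOS A ≫ qA = _root_.ClSub.unitToPush iW := by
    rw [show toOS A = _root_.ClSub.unitToPush iA from toOT_eq _]
    exact H95.LefFEt.Adjunct.unitToPush_comp _ iA
  have hQe : Epi (_root_.ClSub.unitToPush iW) := by
    rw [← hqA']
    exact @epi_comp _ _ _ _ _ _ (isQuotOn_OS hA).1 _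
      (@epi_comp _ _ _ _ _ _ hpe _ (IsIso.epi_of_iso _))
  obtain ⟨e⟩ := nonempty_kernel_iso k hdim hg hA hB hAB hcov iW hW qA hqA' hQe
  haveI : PreservesLimitsOfSize.{0, 0} (Coh.push iA) :=
    (Scheme.Modules.pullbackPushforwardAdjunction iA).rightAdjoint_preservesLimits
  let eKA : kernel qA ≅ (Coh.push iA).obj (_root_.ClSub.idealMod P) :=
    kernelCompMono _ _ ≪≫ (PreservesKernel.iso (Coh.push iA) (_root_.ClSub.toSubscheme P)).symm
  haveI : PreservesLimitsOfSize.{0, 0} (Modules.DualAdj.tensorL F) :=
    (Modules.DualAdj.adjunction hdb).rightAdjoint_preservesLimits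
  haveI : PreservesFiniteLimits (Modules.DualAdj.tensorL F) :=
    PreservesLimitsOfSize0.preservesFiniteLimits _
  haveI : PreservesColimitsOfSize.{0, 0} (Modules.DualAdj.tensorL F) :=
    preservesColimitsOfSize_shrink _
  haveI : PreservesFiniteColimits (Modules.DualAdj.tensorL F) :=
    PreservesColimitsOfSize0.preservesFiniteColimits _
  haveI := (isQuotOn_OS hB).1
  have hS : (ShortComplex.mk (kernel.ι (toOS B)) (toOS B) (kernel.condition _)).ShortExact :=
    { exact := ShortComplex.exact_of_f_is_kernel _ (kernelIsKernel (toOS B)) }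
  have hS' := hS.map_of_exact (Modules.DualAdj.tensorL F)
  have hFA := CurveBundle.Coherent.isCoh hF
  haveI := hFA.1
  haveI : ((Scheme.Modules.pullback iA).obj F).IsQuasicoherent := QCoh.Pullback.isQCoh_pullback iA F
  haveI : ((Scheme.Modules.pullback iB).obj F).IsQuasicoherent := QCoh.Pullback.isQCoh_pullback iB F
  have hI : Coh.IsCoh (_root_.ClSub.idealMod P) := IdealTwist.isCoh_ideal P
  haveI := hI.1
  haveI := TensorMod.TensorQCoh.isQCoh_tensorMod ((Scheme.Modules.pullback iA).obj F) (_root_.ClSub.idealMod P)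
  have hvan' : Subsingleton (Coh.HH X (CohB1.tensorMod F (kernel (toOS B))) 1) := by
    let e1 : CohB1.tensorMod F (kernel (toOS B)) ≅
        (Coh.push iA).obj (CohB1.tensorMod ((Scheme.Modules.pullback iA).obj F) (_root_.ClSub.idealMod P)) :=
      TensorMod.Basic.tensorIso (Iso.refl F) (e ≪≫ eKA) ≪≫
        (Modules.ProjFormula.projIso iA hdb).app (_root_.ClSub.idealMod P)
    exact ((isoK k e1 1).trans (ZarCoh.Linear.affineLinearEquiv (A := k) iA rfl _ 1)).toEquiv.subsingleton
  let e2 : CohB1.tensorMod F (OS B) ≅ (Coh.push iB).obj ((Scheme.Modules.pullback iB).obj F) :=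
    (Modules.ProjFormula.projIso iB hdb).app (Coh.structureModule (VecSt.subsch X (uT B) (isClosed_uT B))) ≪≫
      (Coh.push iB).mapIso (TensorMod.Basic.rightUnit _)
  let r : F ≅ CohB1.tensorMod F (Coh.structureModule X) := (TensorMod.Basic.rightUnit F).symm
  have hsur := Euler.surjective_h1 (k := k) hS' (Positivity.subsingleton_HH_of_two_le hdim _ 2 le_rfl)
  have hinj : Function.Injective (mapK k ((Modules.DualAdj.tensorL F).map (toOS B)) 1) := by
    refine (injective_iff_map_eq_zero _).2 fun x hx => ?_
    obtain ⟨y, rfl⟩ := (exactK₂ k hS' 1 x).1 hx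
    have h0 : y = 0 := @Subsingleton.elim _ hvan' y 0
    exact (congrArg _ h0).trans (map_zero _)
  exact ((isoK k r 1).trans ((LinearEquiv.ofBijective _ ⟨hinj, hsur⟩).trans
    ((isoK k e2 1).trans (ZarCoh.Linear.affineLinearEquiv (A := k) iB rfl _ 1)))).finrank_eq

end Groth.Agent.Lib.TreeVan29
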