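import Groth.Agent.Lib.TreeVan29.Seq
import Groth.Agent.H90.ConnFun
import Groth.Agent.H34.DefAmple
import Groth.Agent.Lib.DecSh.Family
import Groth.Agent.H75.RedSub

/-!
# Adding one component with globally generated restriction
-/

set_option autoImplicit false
set_option linter.style.haveILetI false
universe u

open CategoryTheory CategoryTheory.Limits AlgebraicGeometry Opposite TopologicalSpace

noncomputable section

namespace Groth.Agent.Lib.TreeVan29

open Groth.Agent.Lib Groth.Agent.Lib.Modules Groth.Agent.Lib.Curves Groth.Agent.Lib.Curves.SubUnion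
open Groth.Agent.Lib.Curves.LES (mapK exactK₁ exactK₂ exactK₃ isoK mapK_comp)
open Groth.Agent.Lib.Modules.StalkModule (stalkMapₗ stalkMapₗ_comp stalkMapₗ_zero)

set_option synthInstance.maxHeartbeats 200000

variable {X : Scheme.{u}} (k : Type u) [Field k] [IsAlgClosed k] [X.Over (Spec (CommRingCat.of k))]
  [IsProper (X ↘ Spec (CommRingCat.of k))] [IsReduced X] (hdim : topologicalKrullDim X ≤ 1)
  (hg : Subsingleton (Coh.HH X (Coh.structureModule X) 1))

/-- `h¹` of `F` on a union. -/
def h1On (F : X.Modules) (S : Finset X) : ℕ := Module.finrank k (Coh.HH X (CohB1.tensorMod F (OS S)) 1)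

include k hdim hg

open scoped Classical in
/-- Adding a component with globally generated restriction keeps `h¹`. -/
theorem h1On_insert {F : X.Modules} (hF : FlatMod.IsFinLocFree F) {η : X} (hη : η ∈ genericPoints X)
    {B : Finset X} (hB : IsGen B) (hne : B.Nonempty) (hηB : η ∉ B) (hBc : _root_.IsPreconnected (uT B))
    (hUc : _root_.IsPreconnected (uT (insert η B)))
    (hgg : Curv2.IsGloballyGenerated ((Scheme.Modules.pullback
      (VecSt.subschι X (uT ({η} : Finset X)) (isClosed_uT _))).obj F)) :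
    h1On k F (insert η B) = h1On k F B := by
  haveI := GlobalSections.isNoetherian_of_proper k X
  haveI := GlobalSections.noetherianSpace_of_proper k X
  set A : Finset X := {η} with hAdef
  set U : Finset X := insert η B with hUdef
  have hA : IsGen A := fun x hx => by rw [Finset.mem_singleton.1 hx]; exact hη
  have hU : IsGen U := fun x hx => (Finset.mem_insert.1 hx).elim (fun h => h ▸ hη) (hB x)
  have hAB : Disjoint A B := Finset.disjoint_singleton_left.2 hηB
  have hUeq : uT U = uT A ∪ uT B := by rw [hUdef, Finset.insert_eq, uT_union]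
  have hqA := isQuotOn_OS hA
  have hqB := isQuotOn_OS hB
  have hqU := isQuotOn_OS hU
  have hO := TFOne.EDeg.isTF1_structure (X := X)
  obtain ⟨rA, hrA, hepA⟩ := exists_restrict hO hU hqU (Finset.singleton_subset_iff.2 (Finset.mem_insert_self η B)) hqA
  obtain ⟨rB, hrB, hepB⟩ := exists_restrict hO hU hqU (Finset.subset_insert η B) hqB
  haveI := hepA
  haveI := hepB
  haveI := hqA.1
  haveI := hqB.1
  haveI := hqU.1
  -- one intersection point
  have fA : f k A = 1 := f_singleton k hdim hg hη
  have fB : f k B = 1 := f_connected k hdim hg hB hne hBc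
  have fU : f k U = 1 := f_connected k hdim hg hU (Finset.insert_nonempty η B) hUc
  obtain ⟨hfin, hcard⟩ := card_inter_le k hdim hA hB hAB
  rw [← Finset.insert_eq, fA, fB] at hcard
  rw [← hUdef, fU] at hcard
  have hZne : (uT A ∩ uT B).Nonempty := by
    by_contra hz
    rw [Set.not_nonempty_iff_eq_empty] at hz
    have := isPreconnected_closed_iff.1 hUc _ _ (isClosed_uT A) (isClosed_uT B) hUeq.le
      ⟨η, mem_uT_of_mem (Finset.mem_insert_self η B), mem_uT_of_mem (Finset.mem_singleton_self η)⟩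
      (by obtain ⟨x, hx⟩ := hne
          exact ⟨x, mem_uT_of_mem (Finset.mem_insert_of_mem hx), mem_uT_of_mem hx⟩)
    rw [hz, Set.inter_empty] at this
    exact Set.not_nonempty_empty this
  have hone : (uT A ∩ uT B).ncard = 1 := by
    have := hZne.ncard_pos hfin
    omega
  let iA := VecSt.subschι X (uT A) (isClosed_uT A)
  letI : (VecSt.subsch X (uT A) (isClosed_uT A)).Over (Spec (CommRingCat.of k)) :=
    ⟨iA ≫ (X ↘ Spec (CommRingCat.of k))⟩
  haveI : IsProper ((VecSt.subsch X (uT A) (isClosed_uT A)) ↘ Spec (CommRingCat.of k)) :=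
    inferInstanceAs (IsProper (iA ≫ (X ↘ Spec (CommRingCat.of k))))
  haveI : IsLocallyNoetherian (VecSt.subsch X (uT A) (isClosed_uT A)) :=
    LocallyOfFiniteType.isLocallyNoetherian iA
  let P : (VecSt.subsch X (uT A) (isClosed_uT A)).IdealSheafData :=
    Scheme.IdealSheafData.vanishingIdeal ⟨iA ⁻¹' uT B, (isClosed_uT B).preimage iA.continuous⟩
  haveI : IsReduced P.subscheme := H75.RedSub.isReduced_vanishingIdeal _
  let iW := P.subschemeι ≫ iA
  have hW : Set.range iW = uT A ∩ uT B := by
    have hrA := TFOne.Push.range_subschι (isClosed_uT A)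
    have hs : (P.support : Set (VecSt.subsch X (uT A) (isClosed_uT A))) = iA ⁻¹' uT B :=
      Scheme.IdealSheafData.coe_support_vanishingIdeal _
    ext x
    constructor
    · rintro ⟨w, rfl⟩
      exact ⟨hrA.le ⟨P.subschemeι w, rfl⟩, hs.le ((Scheme.IdealSheafData.range_subschemeι P).le ⟨w, rfl⟩)⟩
    · rintro ⟨h1, h2⟩
      obtain ⟨v, rfl⟩ := hrA.ge h1
      obtain ⟨w, hw⟩ := (Scheme.IdealSheafData.range_subschemeι P).ge (hs.ge h2)
      exact ⟨w, congrArg iA hw⟩
  haveI hpe : Epi ((Scheme.Modules.pushforward iA).map (_root_.ClSub.toSubscheme P)) := by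
    haveI := DerivedOX.PushExact.preservesFiniteColimits_pushforward iA
    exact (Coh.push iA).map_epi _
  let Q := (Scheme.Modules.pushforward iW).obj (Coh.structureModule P.subscheme)
  let qA : OS A ⟶ Q :=
    (Scheme.Modules.pushforward iA).map (_root_.ClSub.toSubscheme P) ≫
      (Scheme.Modules.pushforwardComp P.subschemeι iA).hom.app _
  have hqA' : toOS A ≫ qA = _root_.ClSub.unitToPush iW := by
    rw [show toOS A = _root_.ClSub.unitToPush iA from toOT_eq _]
    exact H95.LefFEt.Adjunct.unitToPush_comp _ iA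
  haveI hQe : Epi (_root_.ClSub.unitToPush iW) := by
    rw [← hqA']
    exact @epi_comp _ _ _ _ _ _ hqA.1 _ (@epi_comp _ _ _ _ _ _ hpe _ (IsIso.epi_of_iso _))
  haveI : Epi qA := epi_of_epi_fac hqA'
  obtain ⟨qB, hqB'⟩ : ∃ qB : OS B ⟶ Q, toOS B ≫ qB = _root_.ClSub.unitToPush iW := by
    let iB := VecSt.subschι X (uT B) (isClosed_uT B)
    have hle : iB.ker ≤ iW.ker := by
      rw [H75.RedKer.ker_eq_vanishingIdeal iW]
      refine le_trans (le_of_eq (Scheme.IdealSheafData.ker_subschemeι _))
        (Scheme.IdealSheafData.gc.monotone_u ?_)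
      show closure (Set.range iW) ⊆ uT B
      exact closure_minimal (hW.le.trans Set.inter_subset_right) (isClosed_uT B)
    suffices hfac : ∀ g : P.subscheme ⟶ X, IsClosedImmersion.lift iB iW hle ≫ iB = g →
        ∃ qB : OS B ⟶ (Scheme.Modules.pushforward g).obj (Coh.structureModule P.subscheme),
          toOS B ≫ qB = _root_.ClSub.unitToPush g from hfac iW (IsClosedImmersion.lift_fac iB iW hle)
    rintro g rfl
    refine ⟨(Scheme.Modules.pushforward iB).map (_root_.ClSub.unitToPush (IsClosedImmersion.lift iB iW hle)) ≫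
      (Scheme.Modules.pushforwardComp (IsClosedImmersion.lift iB iW hle) iB).hom.app _, ?_⟩
    rw [show toOS B = _root_.ClSub.unitToPush iB from toOT_eq _]
    exact H95.LefFEt.Adjunct.unitToPush_comp _ iB
  haveI : IsLocallyNoetherian P.subscheme := LocallyOfFiniteType.isLocallyNoetherian iW
  have hQc : Coh.IsCoh Q :=
    Cyc.Dev.SchemeEquiv.isCoh_push _ (TFOne.EDeg.isTF1_structure (X := P.subscheme)).1
  have hqq : rA ≫ qA = rB ≫ qB := by
    rw [← cancel_epi (toOS U), ← Category.assoc, hrA, hqA', ← Category.assoc, hrB, hqB']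
  obtain ⟨hK, eK⟩ := euler_kernel k hqU.2.1 hqB.2.1 rB
  obtain ⟨hKA, eKA⟩ := euler_kernel k hqA.2.1 hQc qA
  let j : kernel rB ⟶ kernel qA := kernel.lift qA (kernel.ι rB ≫ rA)
    (by rw [Category.assoc, hqq, ← Category.assoc, kernel.condition, zero_comp])
  haveI := hK.1
  have hKt : TorSh.IsTorsionFree (kernel rB) := isTorsionFree_of_mono (kernel.ι rB) hqU.2.2.1
  have hgen : ∀ η ∈ genericPoints X, η ∉ uT A ∩ uT B := fun η hη h =>
    Finset.disjoint_left.1 hAB ((mem_uT_iff hη).1 h.1) ((mem_uT_iff hη).1 h.2)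
  have hj : ∀ ξ ∈ genericPoints X, Function.Bijective (stalkMapₗ j ξ) := by
    intro ξ hξ
    have hι := (StalkModule.mono_iff_stalkMapₗ_injective (kernel.ι rB)).mp inferInstance ξ
    have hι' := (StalkModule.mono_iff_stalkMapₗ_injective (kernel.ι qA)).mp inferInstance ξ
    have hjι : ∀ v, stalkMapₗ (kernel.ι qA) ξ (stalkMapₗ j ξ v) = stalkMapₗ rA ξ (stalkMapₗ (kernel.ι rB) ξ v) :=
      fun v => by rw [← stalk_comp_apply, ← stalk_comp_apply, kernel.lift_ι]
    by_cases hξA : ξ ∈ uT A
    · have hξB : ξ ∉ uT B := fun h => hgen ξ hξ ⟨hξA, h⟩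
      have hb := TFOne.Generic.bijective_factor hO hqU hqA hrA hξ (hUeq.ge (Or.inl hξA)) hξA
      refine ⟨fun a b hab => hι (hb.1 (by rw [← hjι, ← hjι, hab])), fun w => ?_⟩
      obtain ⟨u, hu⟩ := hb.2 (stalkMapₗ (kernel.ι qA) ξ w)
      obtain ⟨v, hv⟩ := mem_stalk_kernel rB (v := u)
        (@Subsingleton.elim _ (TFOne.Generic.subsingleton_stalk hqB hξB) _ _)
      exact ⟨v, hι' (by rw [hjι, hv, hu])⟩
    · haveI := TFOne.Generic.subsingleton_stalk hqA hξA
      haveI : Subsingleton ((kernel qA).presheaf.stalk ξ) := hι'.subsingleton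
      refine ⟨fun a b _ => hι ?_, fun w => ⟨0, Subsingleton.elim _ _⟩⟩
      by_cases hξB : ξ ∈ uT B
      · refine (TFOne.Generic.bijective_factor hO hqU hqB hrB hξ (hUeq.ge (Or.inr hξB)) hξB).1 ?_
        rw [← stalk_comp_apply, ← stalk_comp_apply, kernel.condition, stalkMapₗ_zero]
        rfl
      · exact @Subsingleton.elim _ (TFOne.Generic.subsingleton_stalk hqU fun h =>
          (hUeq.le h).elim hξA hξB) _ _
  haveI : Mono j := TFOne.Generic.mono_of_generic hKt j fun ξ hξ => (hj ξ hξ).1
  have hrW : ∀ w, iW w ∈ uT A ∩ uT B := fun w => hW.le (Set.mem_range_self w)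
  have hQ : 1 ≤ Curv2.euler k X Q := by
    have hQ0 : Positivity.IsTorsion Q := fun x hx =>
      PushClosed.Unit.subsingleton_stalk_push iW _ (by rw [hW]; exact hgen x hx)
    rw [hQ0.euler hdim]
    haveI : FiniteDimensional k (Coh.HH X Q 0) := (Finiteness.isGood_of_isCoh (k := k) hdim hQc).fin₀
    obtain ⟨x, hx⟩ := hZne
    obtain ⟨w, -⟩ := hW.ge hx
    haveI : Nontrivial (Coh.HH X Q 0) := by
      refine (GlobalSections.h0Equiv Q).toEquiv.nontrivial_congr.mpr ?_
      haveI : Nonempty (iW ⁻¹ᵁ (⊤ : X.Opens)) := ⟨⟨w, trivial⟩⟩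
      exact (inferInstance : Nontrivial Γ(P.subscheme, iW ⁻¹ᵁ ⊤))
    have := Module.finrank_pos (R := k) (M := Coh.HH X Q 0)
    omega
  have hC : Coh.IsCoh (cokernel j) := CohBasics.Closure.isCoh_cokernel j hK.1 hKA
  have hCt : Positivity.IsTorsion (cokernel j) := fun ξ hξ =>
    subsingleton_cokernel_stalk j fun v => (hj ξ hξ).2 v
  have hse : Curv2.euler k X (kernel qA) = Curv2.euler k X (kernel rB) + Curv2.euler k X (cokernel j) :=
    ParBun.Proper.euler_add (S := ShortComplex.mk j (cokernel.π j) (cokernel.condition j))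
      { exact := ShortComplex.exact_of_g_is_cokernel _ (cokernelIsCokernel j) } hK hKA hC
  have hle : Curv2.euler k X (cokernel j) ≤ 0 := by
    change _ = Curv2.euler k X (OS A) - Curv2.euler k X Q at eKA
    unfold f at fA fB fU
    change Curv2.euler k X (OS U) = 1 at fU
    omega
  rw [hCt.euler hdim] at hle
  haveI : FiniteDimensional k (Coh.HH X (cokernel j) 0) := (Finiteness.isGood_of_isCoh (k := k) hdim hC).fin₀
  have hz : IsZero (cokernel j) :=
    haveI := hCt.flasque hdim
    Positivity.isZero_of_flasque ((Module.finrank_eq_zero_iff_of_free k _).1 (by omega))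
  haveI : Epi j := Preadditive.epi_of_isZero_cokernel j hz
  haveI := isIso_of_mono_of_epi j
  haveI : PreservesLimitsOfSize.{0, 0} (Coh.push iA) :=
    (Scheme.Modules.pullbackPushforwardAdjunction iA).rightAdjoint_preservesLimits
  let eK : kernel rB ≅ (Coh.push iA).obj (_root_.ClSub.idealMod P) :=
    asIso j ≪≫ kernelCompMono _ _ ≪≫ (PreservesKernel.iso (Coh.push iA) (_root_.ClSub.toSubscheme P)).symm
  -- the first sequence
  have hS : (ShortComplex.mk (kernel.ι rB) rB (kernel.condition _)).ShortExact :=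
    { exact := ShortComplex.exact_of_f_is_kernel _ (kernelIsKernel rB) }
  have hsur0 : Function.Surjective (mapK k rB 0) := by
    let z : Coh.HH X (Coh.structureModule X) 0 :=
      (GlobalSections.h0Equiv (Coh.structureModule X)).symm (show Γ(X, ⊤) from 1)
    have hnz : mapK k (toOS B) 0 z ≠ 0 := fun h0 => by
      have h1 := H90.ConnFun.h0Equiv_mapK (A := k) (toOS B) z
      rw [h0, map_zero, AddEquiv.apply_symm_apply] at h1
      obtain ⟨x, hx⟩ := hne
      obtain ⟨w, -⟩ := (TFOne.Push.range_subschι (isClosed_uT B)).ge (mem_uT_of_mem hx)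
      let iB := VecSt.subschι X (uT B) (isClosed_uT B)
      haveI : Nonempty (iB ⁻¹ᵁ (⊤ : X.Opens)) := ⟨⟨w, trivial⟩⟩
      rw [show toOS B = _root_.ClSub.unitToPush iB from toOT_eq _] at h1
      exact zero_ne_one (α := Γ(VecSt.subsch X (uT B) (isClosed_uT B), iB ⁻¹ᵁ ⊤))
        (h1.trans (map_one (iB.app ⊤).hom))
    haveI : FiniteDimensional k (Coh.HH X (OS B) 0) :=
      (Finiteness.isGood_of_isCoh (k := k) hdim hqB.2.1).fin₀
    have h1B : Module.finrank k (Coh.HH X (OS B) 0) = 1 := by
      have e : Curv2.euler k X (OS B) = (Euler.hdim k X (OS B) 0 : ℤ) - (Euler.hdim k X (OS B) 1 : ℤ) :=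
        Euler.euler_eq (Positivity.subsingleton_HH_of_two_le hdim _)
      haveI := subsingleton_h1 k hdim hg hB
      have h1 : Euler.hdim k X (OS B) 1 = 0 := Module.finrank_zero_of_subsingleton
      unfold f at fB
      rw [fB, h1] at e
      show Euler.hdim k X (OS B) 0 = 1
      omega
    intro y
    obtain ⟨c, hc⟩ := (finrank_eq_one_iff_of_nonzero' _ hnz).1 h1B y
    refine ⟨c • mapK k (toOS U) 0 z, ?_⟩
    rw [map_smul, ← LinearMap.comp_apply, ← mapK_comp, hrB, hc]
  have hh1K : Subsingleton (Coh.HH X (kernel rB) 1) := by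
    refine subsingleton_of_forall_eq 0 fun x => ?_
    haveI := subsingleton_h1 k hdim hg hU
    obtain ⟨y, hy⟩ := (exactK₁ k hS 0 1 rfl x).1 (Subsingleton.elim _ _)
    rw [← hy]
    exact (exactK₃ k hS 0 1 rfl y).2 (hsur0 y)
  haveI : (_root_.ClSub.idealMod P).IsQuasicoherent := (IdealTwist.isCoh_ideal P).1
  have hI1 : Subsingleton (Coh.HH (VecSt.subsch X (uT A) (isClosed_uT A)) (_root_.ClSub.idealMod P) 1) := by
    haveI := hh1K
    exact ((ZarCoh.Linear.affineLinearEquiv (A := k) iA rfl (_root_.ClSub.idealMod P) 1).symm.trans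
      (isoK k eK.symm 1)).toEquiv.subsingleton
  -- on the component
  have hdimA : topologicalKrullDim (VecSt.subsch X (uT A) (isClosed_uT A)) ≤ 1 :=
    iA.isClosedEmbedding.isInducing.topologicalKrullDim_le.trans hdim
  let FA := (Scheme.Modules.pullback iA).obj F
  have hFA : Coh.IsCoh FA := CurveBundle.Coherent.isCoh (TensorMod.LocFree.isFinLocFree_pullback iA hF)
  have hFI : Subsingleton (Coh.HH (VecSt.subsch X (uT A) (isClosed_uT A))
      (CohB1.tensorMod FA (_root_.ClSub.idealMod P)) 1) := by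
    haveI : CompactSpace (VecSt.subsch X (uT A) (isClosed_uT A)) :=
      H34.DefAmple.compactSpace_of_proper ((VecSt.subsch X (uT A) (isClosed_uT A)) ↘ Spec (CommRingCat.of k))
    obtain ⟨p, hp⟩ := DecShLib.Family.exists_free_epi k hFA hgg (le_refl (Euler.hdim k _ FA 0))
    haveI := hp
    obtain ⟨q, hq⟩ := H34.DefAmple.exists_epi_tensor (_root_.ClSub.idealMod P) p
    haveI := hq
    exact H34.HOne.h1_of_iso (TensorMod.Basic.comm _ _)
      (H34.HOne.h1_of_epi hdimA q (H34.HOne.h1_sigma _ fun _ => hI1))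
  -- twist
  have hdb := Modules.DualBasis.hasDBases_of_isFinLocFree hF
  haveI : PreservesLimitsOfSize.{0, 0} (Modules.DualAdj.tensorL F) :=
    (Modules.DualAdj.adjunction hdb).rightAdjoint_preservesLimits
  haveI : PreservesFiniteLimits (Modules.DualAdj.tensorL F) :=
    PreservesLimitsOfSize0.preservesFiniteLimits _
  haveI : PreservesColimitsOfSize.{0, 0} (Modules.DualAdj.tensorL F) :=
    preservesColimitsOfSize_shrink _
  haveI : PreservesFiniteColimits (Modules.DualAdj.tensorL F) :=
    PreservesColimitsOfSize0.preservesFiniteColimits _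
  have hS' := hS.map_of_exact (Modules.DualAdj.tensorL F)
  haveI := hFA.1
  haveI := TensorMod.TensorQCoh.isQCoh_tensorMod FA (_root_.ClSub.idealMod P)
  have hvan' : Subsingleton (Coh.HH X (CohB1.tensorMod F (kernel rB)) 1) := by
    let e1 : CohB1.tensorMod F (kernel rB) ≅
        (Coh.push iA).obj (CohB1.tensorMod FA (_root_.ClSub.idealMod P)) :=
      TensorMod.Basic.tensorIso (Iso.refl F) eK ≪≫
        (Modules.ProjFormula.projIso iA hdb).app (_root_.ClSub.idealMod P)
    exact ((isoK k e1 1).trans (ZarCoh.Linear.affineLinearEquiv (A := k) iA rfl _ 1)).toEquiv.subsingleton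
  have hsur := Euler.surjective_h1 (k := k) hS' (Positivity.subsingleton_HH_of_two_le hdim _ 2 le_rfl)
  have hinj : Function.Injective (mapK k ((Modules.DualAdj.tensorL F).map rB) 1) := by
    refine (injective_iff_map_eq_zero _).2 fun x hx => ?_
    obtain ⟨y, rfl⟩ := (exactK₂ k hS' 1 x).1 hx
    have h0 : y = 0 := @Subsingleton.elim _ hvan' y 0
    exact (congrArg _ h0).trans (map_zero _)
  exact (LinearEquiv.ofBijective _ ⟨hinj, hsur⟩).finrank_eq

end Groth.Agent.Lib.TreeVan29
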